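/-
Abstract Shintani descent: twisted norms and the descent element.
-/
import Mathlib

set_option autoImplicit false

namespace Cfsg.Agent.Lib.Shintani

variable {X : Type*} [Group X]

theorem mem_fix {f : MulAut X} {x : X} :
    x ∈ (MulEquiv.toMonoidHom f).eqLocus (MonoidHom.id X) ↔ f x = x := Iff.rfl

theorem pow_fix (σ : MulAut X) {x : X} (h : σ x = x) : ∀ n : ℕ, (σ ^ n) x = x
  | 0 => rfl
  | n + 1 => by rw [pow_succ, MulAut.mul_apply, h, pow_fix σ h n]

theorem pow_comm_apply (σ : MulAut X) (e : ℕ) (x : X) : (σ ^ e) (σ x) = σ ((σ ^ e) x) := by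
  rw [← MulAut.mul_apply, ← MulAut.mul_apply, ← pow_succ, ← pow_succ']

/-- The twisted norm telescopes. -/
theorem norm_eq (σ : MulAut X) (a : X) :
    ∀ d : ℕ, ((List.range d).map (fun i => (σ ^ i) (a * (σ a)⁻¹))).prod = a * ((σ ^ d) a)⁻¹
  | 0 => by simp
  | d + 1 => by
    rw [List.range_succ, List.map_append, List.prod_append, norm_eq σ a d]
    simp [pow_succ, MulAut.mul_apply, mul_assoc]

/-- The descent element is fixed by `σ`. -/
theorem descent_fixed (σ : MulAut X) (e : ℕ) (a : X)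
    (h : (σ ^ e) (a * (σ a)⁻¹) = a * (σ a)⁻¹) :
    σ (((σ ^ e) a)⁻¹ * a) = ((σ ^ e) a)⁻¹ * a := by
  rw [map_mul, map_inv, pow_comm_apply] at h
  have h' : σ ((σ ^ e) a) = σ a * a⁻¹ * (σ ^ e) a := by
    have := congrArg (fun t => t⁻¹ * (σ ^ e) a) h
    simpa [mul_assoc] using this
  rw [map_mul, map_inv, h']
  group

theorem conj_fixed_iff (σ : MulAut X) (a k : X) :
    k * (a * (σ a)⁻¹) * (σ k)⁻¹ = a * (σ a)⁻¹ ↔ σ (a⁻¹ * k * a) = a⁻¹ * k * a := by
  rw [map_mul, map_mul, map_inv]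
  constructor
  · intro h
    have h' := congrArg (fun t => a⁻¹ * t * σ k * σ a) h
    simp only [mul_assoc, inv_mul_cancel_left, inv_mul_cancel, mul_one] at h' ⊢
    exact h'.symm
  · intro h
    have h' := congrArg (fun t => a * t * (σ a)⁻¹ * (σ k)⁻¹) h
    simp only [mul_assoc, mul_inv_cancel_left, inv_mul_cancel_left, mul_inv_cancel, mul_one] at h' ⊢
    exact h'.symm

end Cfsg.Agent.Lib.Shintani
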